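import Groth.Agent.Lib.Residual14.Main
import Groth.Agent.Lib.AlgSpDecent.LocNoeth

/-!
# Local Noetherianity of fibres under change of the field point
-/

universe u

set_option backward.isDefEq.respectTransparency.types false

open CategoryTheory CategoryTheory.Limits AlgebraicGeometry AlgSp Opposite MorphismProperty

namespace Groth.Agent.NoethFibre15

open Groth.Agent.AlgSpDecent Groth.Agent.AlgSpace

variable {S : Scheme.{u}}

/-- Local Noetherianity descends along flat surjective affine morphisms. -/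
theorem isLocallyNoetherian_of_flat_affine {W X : Scheme.{u}} (g : W ⟶ X) [Flat g] [Surjective g]
    [IsAffineHom g] [IsLocallyNoetherian W] : IsLocallyNoetherian X := by
  refine ⟨fun V => ?_⟩
  have hW : IsAffineOpen (g ⁻¹ᵁ V.1) := V.2.preimage g
  have : IsNoetherianRing Γ(W, g ⁻¹ᵁ V.1) := IsLocallyNoetherian.component_noetherian ⟨_, hW⟩
  let g' := g ∣_ V.1
  have : IsAffine V.1.toScheme := V.2
  have : IsAffine (g ⁻¹ᵁ V.1).toScheme := hW
  have : IsNoetherianRing Γ((g ⁻¹ᵁ V.1).toScheme, ⊤) :=
    isNoetherianRing_of_ringEquiv Γ(W, g ⁻¹ᵁ V.1) (g ⁻¹ᵁ V.1).topIso.commRingCatIsoToRingEquiv.symm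
  have hff : g'.appTop.hom.FaithfullyFlat :=
    (Flat.flat_and_surjective_iff_faithfullyFlat_of_isAffine g').1
      ⟨IsZariskiLocalAtTarget.restrict (P := @Flat) inferInstance _,
        IsZariskiLocalAtTarget.restrict (P := @Surjective) inferInstance _⟩
  algebraize [g'.appTop.hom]
  have := Groth.Agent.Hens.isNoetherianRing_of_faithfullyFlat Γ(V.1.toScheme, ⊤)
    Γ((g ⁻¹ᵁ V.1).toScheme, ⊤)
  exact isNoetherianRing_of_ringEquiv Γ(V.1.toScheme, ⊤) V.1.topIso.commRingCatIsoToRingEquiv

/-- A fibre is locally Noetherian as soon as, along a flat affine surjection of points, its base change is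
étale over a locally Noetherian space. -/
theorem isLocNoethSp_of_cover {X Y P Q : Sp S} (hY : IsAlgSpace Y) (hX : IsAlgSpace X) {f : X ⟶ Y}
    {T T₀ T₁ : Over S} (c₀ : T ⟶ T₀) [Flat c₀.left] [Surjective c₀.left] [IsAffineHom c₀.left]
    (c₁ : T ⟶ T₁) [Etale c₁.left] (q : (yon S).obj T₀ ⟶ Y) (p : (yon S).obj T₁ ⟶ Y)
    (hw : (yon S).map c₀ ≫ q = (yon S).map c₁ ≫ p)
    {qfst : Q ⟶ X} {qsnd : Q ⟶ (yon S).obj T₀} (hQ : IsPullback qfst qsnd f q)
    {fst : P ⟶ X} {snd : P ⟶ (yon S).obj T₁} (hP : IsPullback fst snd f p) (hN : IsLocNoethSp P) :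
    IsLocNoethSp Q := by
  obtain ⟨U, a, hae, has⟩ := (isAlgSpace_pullback hY hX (IsAlgSpace.yon_obj T₀) hQ).atlas
  obtain ⟨h, hh⟩ := (yon S).map_surjective (a ≫ qsnd)
  let U' := pullback h c₀
  have hU' : IsPullback ((yon S).map (pullback.fst h c₀)) ((yon S).map (pullback.snd h c₀)) (a ≫ qsnd)
      ((yon S).map c₀) := hh ▸ (IsPullback.of_hasPullback h c₀).map (yon S)
  -- the base change of `Q` to `T`, étale over `P`
  let Q' := pullback qsnd ((yon S).map c₀)
  have sQ : IsPullback (pullback.fst qsnd ((yon S).map c₀)) (pullback.snd qsnd ((yon S).map c₀)) qsnd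
      ((yon S).map c₀) := IsPullback.of_hasPullback _ _
  have sX : IsPullback (pullback.fst qsnd ((yon S).map c₀) ≫ qfst) (pullback.snd qsnd ((yon S).map c₀))
      f ((yon S).map c₁ ≫ p) := hw ▸ sQ.paste_horiz hQ
  let l : pullback qsnd ((yon S).map c₀) ⟶ P :=
    hP.lift (pullback.fst qsnd ((yon S).map c₀) ≫ qfst)
      (pullback.snd qsnd ((yon S).map c₀) ≫ (yon S).map c₁)
      (by rw [sX.w, Category.assoc])
  have sl : IsPullback l (pullback.snd qsnd ((yon S).map c₀)) snd ((yon S).map c₁) := by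
    refine IsPullback.of_right ?_ (hP.lift_snd _ _ _) hP
    rw [show l ≫ fst = _ from hP.lift_fst _ _ _]
    exact sX
  have hle : RepWith @Etale l :=
    (RepWith (S := S) @Etale).of_isPullback sl.flip ((repWith_yon_map_iff _ _).2 inferInstance)
  let a' : (yon S).obj U' ⟶ pullback qsnd ((yon S).map c₀) :=
    sQ.lift ((yon S).map (pullback.fst h c₀) ≫ a) ((yon S).map (pullback.snd h c₀))
      (by rw [Category.assoc]; exact hU'.w)
  have sa : IsPullback a' ((yon S).map (pullback.fst h c₀)) (pullback.fst qsnd ((yon S).map c₀)) a := by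
    refine IsPullback.of_right ?_ (sQ.lift_fst _ _ _) sQ.flip
    rw [show a' ≫ pullback.snd qsnd ((yon S).map c₀) = _ from sQ.lift_snd _ _ _]
    exact hU'.flip
  have ha' : RepWith @Etale a' := (RepWith (S := S) @Etale).of_isPullback sa.flip hae
  have : IsLocallyNoetherian U'.left :=
    isLocallyNoetherian_of_etale_chart hN ((RepWith (S := S) @Etale).comp_mem _ _ ha' hle)
  have sc : IsPullback (pullback.fst h c₀).left (pullback.snd h c₀).left h.left c₀.left :=
    (IsPullback.of_hasPullback h c₀).map (Over.forget S)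
  have : Flat (pullback.fst h c₀).left := MorphismProperty.of_isPullback sc.flip inferInstance
  have : Surjective (pullback.fst h c₀).left := MorphismProperty.of_isPullback sc.flip inferInstance
  have : IsAffineHom (pullback.fst h c₀).left := MorphismProperty.of_isPullback sc.flip inferInstance
  exact ⟨U, a, hae, has, isLocallyNoetherian_of_flat_affine (pullback.fst h c₀).left⟩

/-- A morphism of spectra of fields is a flat affine surjection. -/
theorem field_hom_props {K L : Type u} [Field K] [Field L]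
    (g : Spec (CommRingCat.of L) ⟶ Spec (CommRingCat.of K)) : Flat g ∧ Surjective g ∧ IsAffineHom g := by
  obtain ⟨φ, rfl⟩ := Spec.map_surjective g
  refine ⟨?_, ⟨fun x => ⟨IsLocalRing.closedPoint L, Subsingleton.elim _ _⟩⟩, inferInstance⟩
  rw [HasRingHomProperty.Spec_iff (P := @Flat)]
  let _ := φ.hom.toAlgebra
  exact (inferInstance : Module.Flat K L)

end Groth.Agent.NoethFibre15
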